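import Groth.Agent.LangMap.Torsor
import Groth.Agent.GrpAct.OrbitFlat
import Groth.Agent.Chev.PtsDenseRed
import Groth.Agent.Chev.BorelFixed
import Groth.Agent.MTDescent.SubgroupDescent
import Groth.Agent.MTImage.Cartan
import Groth.Agent.MTBridge.ExtCentral
import Groth.Agent.Rigid.FibreTranslate
import Groth.Agent.AVEuler.Smooth
import Groth.Agent.S2266
import Mathlib.AlgebraicGeometry.Morphisms.LocalFlatDescent

/-!
# Subgroups over an algebraic closure of a finite field fixed by Frobenius descend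
-/

set_option autoImplicit false
set_option linter.style.haveILetI false
set_option backward.isDefEq.respectTransparency false
set_option maxHeartbeats 1000000
set_option synthInstance.maxHeartbeats 400000

universe u

open CategoryTheory CategoryTheory.Limits MonoidalCategory CartesianMonoidalCategory MonObj GrpObj AlgebraicGeometry
open Groth.Agent.MTBridge (toBC toBC_mul toBC_comp toBC_precomp toBC_inv exists_toBC' toBC_inj)
open Groth.Agent.LangMap (specOver specHom frob frob_apply specHom_comp)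
open Groth.Agent.SubGen (rpt exists_rpt rpt_mem_closedPoints)

noncomputable section

namespace Groth.Agent.BPair

variable (k K : Type u) [Field k] [Field K] [Algebra k K]

/-- The base change map. -/
abbrev qK : Spec (CommRingCat.of K) ⟶ Spec (CommRingCat.of k) := Spec.map (CommRingCat.ofHom (algebraMap k K))

/-- The point of the base change over the base. -/
def isoPt : (Over.map (qK k K)).obj (𝟙_ (Over (Spec (CommRingCat.of K)))) ≅ specOver k K :=
  Over.isoMk (Iso.refl _) (by simp)

variable {k K}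

/-- A point with values in the extension as a rational point of the base change. -/
def pt {G : Over (Spec (CommRingCat.of k))} (g : specOver k K ⟶ G) :
    𝟙_ (Over (Spec (CommRingCat.of K))) ⟶ Red.bc (qK k K) G :=
  toBC (qK k K) ((isoPt k K).hom ≫ g)

theorem pt_fst {G : Over (Spec (CommRingCat.of k))} (g : specOver k K ⟶ G) :
    (pt g).left ≫ pullback.fst G.hom (qK k K) = g.left := by
  rw [pt, MTDescent.left_toBC_fst_eq, Over.comp_left]
  exact Category.id_comp _

theorem pt_surjective {G : Over (Spec (CommRingCat.of k))} (x : 𝟙_ (Over (Spec (CommRingCat.of K))) ⟶ Red.bc (qK k K) G) :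
    ∃ g : specOver k K ⟶ G, pt g = x := by
  obtain ⟨a, ha⟩ := exists_toBC' (qK k K) x
  exact ⟨(isoPt k K).inv ≫ a, by rw [pt, Iso.hom_inv_id_assoc, ha]⟩

theorem pt_comp {G H : Over (Spec (CommRingCat.of k))} (g : specOver k K ⟶ H) (u : H ⟶ G) :
    pt (g ≫ u) = pt g ≫ (Over.pullback (qK k K)).map u := by
  rw [pt, ← Category.assoc, toBC_comp, pt]

variable {G : Over (Spec (CommRingCat.of k))} [GrpObj G]

theorem pt_mul (g h : specOver k K ⟶ G) : pt (g * h) = pt g * pt h := by
  rw [pt, MonObj.comp_mul, toBC_mul, pt, pt]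

theorem pt_inv (g : specOver k K ⟶ G) : pt g⁻¹ = (pt g)⁻¹ := by
  rw [pt, GrpObj.comp_inv, toBC_inv, pt]

theorem pt_one : pt (1 : specOver k K ⟶ G) = 1 :=
  mul_eq_left.1 (by rw [← pt_mul, _root_.one_mul] : pt (1 : specOver k K ⟶ G) * pt 1 = pt 1)

variable [Finite k]

omit [GrpObj G] in
/-- Two points with the same image differ by a power of Frobenius. -/
theorem exists_pow_frob [LocallyOfFiniteType G.hom] (g g₀ : specOver k K ⟶ G)
    (h : g.left (IsLocalRing.closedPoint K) = g₀.left (IsLocalRing.closedPoint K))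
    (hc : IsClosed ({g.left (IsLocalRing.closedPoint K)} : Set G.left)) :
    ∃ n : ℕ, g = specHom ((frob (k := k) K) ^ n) ≫ g₀ := by
  obtain ⟨⟨y, φ⟩, hφ⟩ : ∃ xf, (Scheme.SpecToEquivOfField K G.left).symm xf = g.left :=
    ⟨_, (Scheme.SpecToEquivOfField K G.left).symm_apply_apply g.left⟩
  obtain ⟨⟨y₀, φ₀⟩, hφ₀⟩ : ∃ xf, (Scheme.SpecToEquivOfField K G.left).symm xf = g₀.left :=
    ⟨_, (Scheme.SpecToEquivOfField K G.left).symm_apply_apply g₀.left⟩
  change Spec.map φ ≫ G.left.fromSpecResidueField y = g.left at hφ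
  change Spec.map φ₀ ≫ G.left.fromSpecResidueField y₀ = g₀.left at hφ₀
  have hy : g.left (IsLocalRing.closedPoint K) = y := by
    rw [← hφ, Scheme.Hom.comp_apply]; exact Scheme.fromSpecResidueField_apply _ _
  have hy₀ : g₀.left (IsLocalRing.closedPoint K) = y₀ := by
    rw [← hφ₀, Scheme.Hom.comp_apply]; exact Scheme.fromSpecResidueField_apply _ _
  rw [hy] at hc
  obtain rfl : y₀ = y := by rw [← hy₀, ← h, hy]
  let ψ : CommRingCat.of k ⟶ G.left.residueField y₀ := Spec.preimage (G.left.fromSpecResidueField y₀ ≫ G.hom)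
  have hfin : ψ.hom.Finite := by
    rw [← IsFinite.SpecMap_iff, Spec.map_preimage]
    rw [isClosed_singleton_iff_isClosedImmersion] at hc
    rw [isFinite_iff_locallyOfFiniteType_of_jacobsonSpace]
    infer_instance
  have hcomm : ∀ (x : specOver k K ⟶ G) (χ : G.left.residueField y₀ ⟶ CommRingCat.of K),
      Spec.map χ ≫ G.left.fromSpecResidueField y₀ = x.left → ψ ≫ χ = CommRingCat.ofHom (algebraMap k K) := by
    intro x χ hx
    refine Spec.map_injective ?_
    rw [Spec.map_comp, Spec.map_preimage, ← Category.assoc, hx]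
    exact Over.w x
  letI : Algebra k (G.left.residueField y₀) := ψ.hom.toAlgebra
  haveI : Module.Finite k (G.left.residueField y₀) := hfin
  haveI : Finite (G.left.residueField y₀) := Module.finite_of_finite k
  letI : Algebra (G.left.residueField y₀) K := φ₀.hom.toAlgebra
  haveI : IsScalarTower k (G.left.residueField y₀) K :=
    IsScalarTower.of_algebraMap_eq fun c => (congrArg (fun f => CommRingCat.Hom.hom f c) (hcomm g₀ φ₀ hφ₀)).symm
  let e : G.left.residueField y₀ →ₐ[k] K :=
    { φ.hom with commutes' := fun c => congrArg (fun f => CommRingCat.Hom.hom f c) (hcomm g φ hφ) }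
  let E := Normal.algHomEquivAut k K (G.left.residueField y₀)
  letI : Fintype k := Fintype.ofFinite k
  obtain ⟨⟨n, hlt⟩, hn'⟩ := (FiniteField.bijective_frobeniusAlgEquivOfAlgebraic_pow k (G.left.residueField y₀)).2 (E e)
  have hn : E e = FiniteField.frobeniusAlgEquivOfAlgebraic k (G.left.residueField y₀) ^ n := hn'.symm
  clear hn' hlt
  refine ⟨n, Over.OverMorphism.ext ?_⟩
  rw [Over.comp_left, ← hφ, ← hφ₀]
  show _ = Spec.map (CommRingCat.ofHom ((frob (k := k) K) ^ n).toRingHom) ≫ Spec.map φ₀ ≫ _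
  rw [← Category.assoc, ← Spec.map_comp]
  congr 2
  ext x
  have h1 : e x = algebraMap (G.left.residueField y₀) K ((E e) x) :=
    (DFunLike.congr_fun (E.symm_apply_apply e) x).symm
  show φ.hom x = ((frob (k := k) K) ^ n) (φ₀.hom x)
  rw [show φ.hom x = e x from rfl, h1, hn]
  clear hn h1
  induction n generalizing x with
  | zero => simp; rfl
  | succ m ih =>
    rw [pow_succ, pow_succ, AlgEquiv.mul_apply, AlgHom.mul_apply, ih, frob_apply, ← map_pow, Nat.card_eq_fintype_card]
    rfl

variable [IsAlgClosed K]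

/-- **Frobenius fixed smooth subgroups descend.** -/
theorem exists_descend [Algebra.IsAlgebraic k K] [IsAffine G.left] [LocallyOfFiniteType G.hom]
    {H : Over (Spec (CommRingCat.of K))} [GrpObj H] (i : H ⟶ Red.bc (qK k K) G) [IsMonHom i] [IsClosedImmersion i.left]
    [Smooth H.hom]
    (hinv : ∀ g : specOver k K ⟶ G, (∃ h, h ≫ i = pt g) → ∃ h, h ≫ i = pt (specHom (frob (k := k) K) ≫ g)) :
    ∃ (H₀ : Over (Spec (CommRingCat.of k))) (_ : GrpObj H₀) (j : H₀ ⟶ G), IsMonHom j ∧ IsClosedImmersion j.left ∧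
      Smooth H₀.hom ∧ ∃ e : Red.bc (qK k K) H₀ ≅ H, e.hom ≫ i = (Over.pullback (qK k K)).map j := by
  haveI : IsAffineHom G.hom := isAffineHom_of_isAffine _
  haveI : IsAffineHom (Red.bc (qK k K) G).hom := MorphismProperty.pullback_snd (P := @IsAffineHom) _ _ ‹_›
  haveI : IsAffine (Red.bc (qK k K) G).left := isAffine_of_isAffineHom (Red.bc (qK k K) G).hom
  haveI : IsAffine H.left := isAffine_of_isAffineHom i.left
  haveI : LocallyOfFiniteType (Red.bc (qK k K) G).hom := inferInstanceAs (LocallyOfFiniteType (pullback.snd G.hom _))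
  haveI : IsReduced H.left := SmoothRed.isReduced_of_smooth_scheme H.hom
  haveI : IsIntegralHom (qK k K) := by
    rw [IsIntegralHom.SpecMap_iff]
    exact algebraMap_isIntegral_iff.mpr inferInstance
  haveI : IsIntegralHom (pullback.fst G.hom (qK k K)) := MorphismProperty.pullback_fst _ _ ‹_›
  let r : H.left ⟶ G.left := i.left ≫ pullback.fst G.hom (qK k K)
  haveI : IsIntegralHom r := inferInstance
  haveI : QuasiCompact r := inferInstance
  let j₀ : r.image ⟶ G.left := r.imageι
  haveI : IsReduced r.image := (S2266.result r).1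
  let H₀ : Over (Spec (CommRingCat.of k)) := Over.mk (j₀ ≫ G.hom)
  let j : H₀ ⟶ G := Over.homMk j₀ rfl
  haveI : IsClosedImmersion j.left := inferInstanceAs (IsClosedImmersion r.imageι)
  haveI : Mono j := Over.mono_of_mono_left j
  haveI : IsReduced H₀.left := inferInstanceAs (IsReduced r.image)
  haveI : LocallyOfFiniteType H₀.hom := inferInstanceAs (LocallyOfFiniteType (j.left ≫ G.hom))
  haveI : GeometricallyReduced H₀.hom := Rigid.geometricallyReduced_of_perfect H₀.hom
  have hrange : Set.range j.left = Set.range r := by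
    show Set.range r.imageι = _
    rw [Scheme.IdealSheafData.range_subschemeι, Scheme.Hom.support_ker]
    exact r.isClosedMap.isClosed_range.closure_eq
  have hpt : ∀ g : specOver k K ⟶ G, (pt g).left ≫ pullback.fst G.hom (qK k K) = g.left := pt_fst
  have hpow : ∀ (n : ℕ) (g : specOver k K ⟶ G), (∃ h, h ≫ i = pt g) →
      ∃ h, h ≫ i = pt (specHom ((frob (k := k) K) ^ n) ≫ g) := by
    intro n
    induction n with
    | zero =>
      intro g hg
      rwa [show specHom ((frob (k := k) K) ^ 0) = 𝟙 _ from Over.OverMorphism.ext (Spec.map_id _), Category.id_comp]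
    | succ m ih =>
      intro g hg
      rw [show specHom ((frob (k := k) K) ^ (m + 1)) = specHom (frob (k := k) K) ≫ specHom ((frob (k := k) K) ^ m) by
        rw [specHom_comp, pow_succ']; rfl, Category.assoc]
      exact hinv _ (ih g hg)
  have key : ∀ g : specOver k K ⟶ G, (∃ z, z ≫ j = g) ↔ ∃ h, h ≫ i = pt g := fun g => by
    constructor
    · rintro ⟨z, rfl⟩
      have hmem : (z ≫ j).left (IsLocalRing.closedPoint K) ∈ Set.range r := by
        rw [← hrange, Over.comp_left, Scheme.Hom.comp_apply]; exact ⟨_, rfl⟩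
      have hcl : IsClosed ({(z ≫ j).left (IsLocalRing.closedPoint K)} : Set G.left) := by
        rw [← hpt (z ≫ j), Scheme.Hom.comp_apply, ← Set.image_singleton]
        exact (pullback.fst G.hom (qK k K)).isClosedMap _ (rpt_mem_closedPoints (pt (z ≫ j)))
      haveI : JacobsonSpace H.left := LocallyOfFiniteType.jacobsonSpace H.hom
      obtain ⟨h₀, hh₀, hh₀c⟩ := nonempty_inter_closedPoints (Z := r ⁻¹' {(z ≫ j).left (IsLocalRing.closedPoint K)})
        (Set.Nonempty.preimage' (Set.singleton_nonempty _) (Set.singleton_subset_iff.2 hmem))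
        (hcl.preimage r.continuous).isLocallyClosed
      obtain ⟨x, rfl⟩ := exists_rpt hh₀c
      obtain ⟨g₀, hg₀⟩ := pt_surjective (x ≫ i)
      obtain ⟨n, hn⟩ := exists_pow_frob (z ≫ j) g₀ (by
        rw [← hpt g₀, hg₀]
        exact (Set.mem_singleton_iff.1 hh₀).symm) hcl
      rw [hn]
      exact hpow n g₀ ⟨x, hg₀.symm⟩
    · rintro ⟨h, hh⟩
      have e : h.left ≫ r = g.left := by rw [← hpt g, ← hh, Over.comp_left, Category.assoc]
      have e' : (h.left ≫ r.toImage) ≫ j.left = g.left := by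
        rw [Category.assoc]
        show h.left ≫ r.toImage ≫ r.imageι = _
        rw [r.toImage_imageι, e]
      exact ⟨Over.homMk (h.left ≫ r.toImage) (by
        show _ ≫ j.left ≫ G.hom = _
        rw [← Category.assoc, e', Over.w g]), Over.OverMorphism.ext e'⟩
  -- the group law
  have hone : ∃ e : 𝟙_ (Over (Spec (CommRingCat.of k))) ⟶ H₀, e ≫ j = η[G] := by
    obtain ⟨z, hz⟩ := (key 1).2 ⟨1, by rw [pt_one, MonObj.one_comp]⟩
    haveI : IsReduced (𝟙_ (Over (Spec (CommRingCat.of k)))).left := inferInstanceAs (IsReduced (Spec (CommRingCat.of k)))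
    obtain ⟨e, he⟩ := GrpAct.exists_factor j.left η[G].left (by
      rintro _ ⟨p, rfl⟩
      refine ⟨z.left (IsLocalRing.closedPoint K), ?_⟩
      rw [← Scheme.Hom.comp_apply, ← Over.comp_left, hz, Hom.one_def, Over.comp_left, Scheme.Hom.comp_apply]
      exact congrArg η[G].left (@Subsingleton.elim _ (inferInstanceAs (Subsingleton (PrimeSpectrum k))) _ _))
    exact ⟨Over.homMk e (by rw [← Over.w j, ← Category.assoc, he, Over.w η[G]]), Over.OverMorphism.ext he⟩
  have hdiv : ∀ (T : Over (Spec (CommRingCat.of k))) (a b : T ⟶ H₀),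
      ∃ c : T ⟶ H₀, c ≫ j = (a ≫ j)⁻¹ * (b ≫ j) := by
    let d : H₀ ⊗ H₀ ⟶ G := (fst H₀ H₀ ≫ j)⁻¹ * (snd H₀ H₀ ≫ j)
    haveI : IsReduced (H₀ ⊗ H₀).left := Assoc.isReduced_pullback k H₀.hom H₀.hom
    haveI : GeometricallyReduced (H₀ ⊗ H₀).hom := Rigid.geometricallyReduced_of_perfect _
    haveI : LocallyOfFiniteType (H₀ ⊗ H₀).hom := inferInstanceAs (LocallyOfFiniteType (pullback.fst H₀.hom H₀.hom ≫ H₀.hom))
    haveI : LocallyOfFiniteType (pullback.snd (H₀ ⊗ H₀).hom (qK k K)) := inferInstance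
    haveI : IsIso (pullback.fst d.left j.left) := by
      refine Chev.isIso_of_dense_points_factor k K (H₀ ⊗ H₀).hom _
        (Chev.dense_rational_of_geometricallyReduced K (pullback.snd (H₀ ⊗ H₀).hom _)) fun x hx => ?_
      let X : specOver k K ⟶ H₀ ⊗ H₀ := Over.homMk x hx
      obtain ⟨a, ha⟩ := (key ((X ≫ fst H₀ H₀) ≫ j)).1 ⟨_, rfl⟩
      obtain ⟨b, hb⟩ := (key ((X ≫ snd H₀ H₀) ≫ j)).1 ⟨_, rfl⟩
      obtain ⟨w, hw⟩ := (key (X ≫ d)).2 ⟨a⁻¹ * b, by
        rw [MonObj.mul_comp, GrpObj.inv_comp, ha, hb, ← pt_inv, ← pt_mul]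
        simp only [d, MonObj.comp_mul, GrpObj.comp_inv, Category.assoc]⟩
      exact ⟨pullback.lift x w.left (congrArg CommaMorphism.left hw).symm, pullback.lift_fst _ _ _⟩
    let c₀ := inv (pullback.fst d.left j.left) ≫ pullback.snd d.left j.left
    have hc₀ : c₀ ≫ j.left = d.left := by rw [Category.assoc, ← pullback.condition, IsIso.inv_hom_id_assoc]
    let c : H₀ ⊗ H₀ ⟶ H₀ := Over.homMk c₀ (by rw [← Over.w j, ← Category.assoc, hc₀, Over.w d])
    have hc : c ≫ j = d := Over.OverMorphism.ext hc₀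
    intro T a b
    refine ⟨lift a b ≫ c, ?_⟩
    rw [Category.assoc, hc]
    simp only [d, MonObj.comp_mul, GrpObj.comp_inv, lift_fst_assoc, lift_snd_assoc]
  obtain ⟨hg, hjm⟩ := MTBridge.exists_grpObj_of_div j hone hdiv
  haveI : Smooth H₀.hom := AVEuler.smooth_of_geometricallyReduced H₀
  -- the base change
  haveI : GeometricallyReduced (Red.bc (qK k K) H₀).hom := MorphismProperty.pullback_snd (P := @GeometricallyReduced) _ _ ‹_›
  let jK : Red.bc (qK k K) H₀ ⟶ Red.bc (qK k K) G := (Over.pullback (qK k K)).map j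
  haveI : IsClosedImmersion jK.left :=
    MorphismProperty.of_isPullback (P := @IsClosedImmersion) (MTImage.isPullback_map j (qK k K)) ‹IsClosedImmersion j.left›
  haveI : GeometricallyReduced H.hom := Rigid.geometricallyReduced_of_perfect H.hom
  let u : Over.mk (Spec.map (CommRingCat.ofHom (algebraMap K K))) ≅ 𝟙_ (Over (Spec (CommRingCat.of K))) :=
    Over.isoMk (Iso.refl _) (by
      show 𝟙 _ ≫ 𝟙 _ = Spec.map (CommRingCat.ofHom (RingHom.id K))
      rw [Category.id_comp, CommRingCat.ofHom_id, Spec.map_id])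
  obtain ⟨e, he⟩ := Chev.exists_iso_of_points_eq K K (X := Red.bc (qK k K) G) jK i fun x => by
    obtain ⟨g, hg⟩ := pt_surjective (u.inv ≫ x)
    have hx : x = u.hom ≫ pt g := by rw [hg, Iso.hom_inv_id_assoc]
    constructor
    · rintro ⟨z, hz⟩
      obtain ⟨z₀, hz₀⟩ := pt_surjective (u.inv ≫ z)
      obtain ⟨h, hh⟩ := (key (z₀ ≫ j)).1 ⟨z₀, rfl⟩
      refine ⟨u.hom ≫ h, ?_⟩
      rw [Category.assoc, hh, pt_comp, hz₀, Category.assoc, Iso.hom_inv_id_assoc, hz]
    · rintro ⟨z, hz⟩
      obtain ⟨z₀, hz₀⟩ := (key g).2 ⟨u.inv ≫ z, by rw [Category.assoc, hz, hx, Iso.inv_hom_id_assoc]⟩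
      refine ⟨u.hom ≫ pt z₀, ?_⟩
      rw [Category.assoc, ← pt_comp, hz₀, hx]
  exact ⟨H₀, hg, j, hjm, inferInstance, inferInstance, e, he⟩

end Groth.Agent.BPair
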