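import Groth.Agent.ParNorm.Global
import Groth.Agent.SubLocus.Transporter
import Groth.Agent.Chev.Parabolic
import Groth.Agent.Chev.TorusTheory
import Groth.Agent.Chev.CentScheme
import Groth.Agent.Chev.MaxTorusBC
import Groth.Agent.MTBridge.ExtCentral
import Groth.Agent.MTImage.ToriConj
import Groth.Agent.Rigid.FibreTranslate
import Groth.Agent.S3932
import Groth.Agent.S4118
import Groth.Agent.S3935

/-!
# Borel pairs over a finite field are conjugate
-/

set_option autoImplicit false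
set_option linter.style.haveILetI false
set_option backward.isDefEq.respectTransparency false
set_option maxHeartbeats 1000000
set_option synthInstance.maxHeartbeats 400000

universe u

open CategoryTheory CategoryTheory.Limits MonoidalCategory CartesianMonoidalCategory MonObj GrpObj AlgebraicGeometry
open Groth.Agent.MTBridge (toBC toBC_mul toBC_comp toBC_precomp toBC_inv exists_toBC' toBC_inj)

noncomputable section

namespace Groth.Agent.BPair

variable {k : Type u} [Field k] {G : Over (Spec (CommRingCat.of k))} [GrpObj G]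

/-- Conjugation by a point carries one subgroup onto the other. -/
def Conj {H H' : Over (Spec (CommRingCat.of k))} (i : H ⟶ G) (i' : H' ⟶ G) {X : Over (Spec (CommRingCat.of k))}
    (g : X ⟶ G) : Prop :=
  ∀ (X' : Over (Spec (CommRingCat.of k))) (x : X' ⟶ X),
    (∀ h : X' ⟶ H, ∃ h' : X' ⟶ H', (x ≫ g) * (h ≫ i) * (x ≫ g)⁻¹ = h' ≫ i') ∧
    (∀ h' : X' ⟶ H', ∃ h : X' ⟶ H, (x ≫ g)⁻¹ * (h' ≫ i') * (x ≫ g) = h ≫ i)

variable {H H' H'' : Over (Spec (CommRingCat.of k))} {i : H ⟶ G} {i' : H' ⟶ G} {i'' : H'' ⟶ G}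
  {X : Over (Spec (CommRingCat.of k))}

theorem Conj.comp {X' : Over (Spec (CommRingCat.of k))} {g : X ⟶ G} (h : Conj i i' g) (x : X' ⟶ X) :
    Conj i i' (x ≫ g) := fun X'' y => by
  simpa only [← Category.assoc] using h X'' (y ≫ x)

theorem Conj.mul {g g' : X ⟶ G} (h : Conj i i' g) (h' : Conj i' i'' g') : Conj i i'' (g' * g) := fun X' x => by
  rw [MonObj.comp_mul, _root_.mul_inv_rev]
  constructor
  · intro a
    obtain ⟨b, hb⟩ := (h X' x).1 a
    obtain ⟨c, hc⟩ := (h' X' x).1 b
    exact ⟨c, by rw [← hc, ← hb]; group⟩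
  · intro c
    obtain ⟨b, hb⟩ := (h' X' x).2 c
    obtain ⟨a, ha⟩ := (h X' x).2 b
    exact ⟨a, by rw [← ha, ← hb]; group⟩

theorem Conj.inv {g : X ⟶ G} (h : Conj i i' g) : Conj i' i g⁻¹ := fun X' x => by
  rw [GrpObj.comp_inv, _root_.inv_inv]
  exact ⟨(h X' x).2, (h X' x).1⟩

/-- Strict transporters are closed subschemes. -/
theorem exists_strictTransporter [IsAffine G.left] [Smooth G.hom] [GrpObj H] [GrpObj H'] (i : H ⟶ G) (i' : H' ⟶ G)
    [IsMonHom i] [IsMonHom i'] [IsClosedImmersion i.left] [IsClosedImmersion i'.left] [Smooth H.hom] [Smooth H'.hom]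
    [GeometricallyIrreducible H.hom] [GeometricallyIrreducible H'.hom] :
    ∃ (W : Over (Spec (CommRingCat.of k))) (w : W ⟶ G), IsClosedImmersion w.left ∧ LocallyOfFinitePresentation w.left ∧
      ∀ (X : Over (Spec (CommRingCat.of k))) (g : X ⟶ G), (∃ z, z ≫ w = g) ↔ Conj i i' g := by
  haveI : IsAffineHom G.hom := isAffineHom_of_isAffine _
  haveI : Mono i := (Over.forget _).mono_of_mono_map (show Mono i.left from inferInstance)
  haveI : Mono i' := (Over.forget _).mono_of_mono_map (show Mono i'.left from inferInstance)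
  haveI : QuasiCompact H.hom := by rw [← Over.w i]; infer_instance
  haveI : QuasiCompact H'.hom := by rw [← Over.w i']; infer_instance
  haveI : LocallyOfFinitePresentation i.left := by
    haveI : LocallyOfFinitePresentation (i.left ≫ G.hom) := by rw [Over.w i]; infer_instance
    exact LimDesc.lfp_of_comp i.left G.hom
  haveI : LocallyOfFinitePresentation i'.left := by
    haveI : LocallyOfFinitePresentation (i'.left ≫ G.hom) := by rw [Over.w i']; infer_instance
    exact LimDesc.lfp_of_comp i'.left G.hom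
  obtain ⟨T₁, t₁, h₁c, h₁f, h₁⟩ := SubLocus.exists_transporter i i'
  obtain ⟨T₂, t₂', h₂c, h₂f, h₂⟩ := SubLocus.exists_transporter i' i
  let t₂ : T₂ ⟶ G := t₂' ≫ GrpObj.inv (X := G)
  haveI : IsIso (GrpObj.inv (X := G)).left := inferInstanceAs (IsIso ((Over.forget _).map (GrpObj.inv (X := G))))
  haveI : IsClosedImmersion t₂.left := inferInstanceAs (IsClosedImmersion (t₂'.left ≫ (GrpObj.inv (X := G)).left))
  haveI : LocallyOfFinitePresentation t₂.left :=
    inferInstanceAs (LocallyOfFinitePresentation (t₂'.left ≫ (GrpObj.inv (X := G)).left))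
  have e₂ : ∀ (X : Over (Spec (CommRingCat.of k))) (g : X ⟶ G), (∃ z, z ≫ t₂ = g) ↔ ∃ z, z ≫ t₂' = g⁻¹ := by
    intro X g
    refine ⟨fun ⟨z, hz⟩ => ⟨z, ?_⟩, fun ⟨z, hz⟩ => ⟨z, ?_⟩⟩
    · rw [← hz, ← Category.assoc, ← Hom.inv_def, _root_.inv_inv]
    · rw [← Category.assoc, ← Hom.inv_def, hz, _root_.inv_inv]
  obtain ⟨W, w, hw, hwf, hW⟩ := ClosedRep.exists_closed_inter_lfp t₁ t₂
  refine ⟨W, w, hw, hwf, fun X g => ?_⟩
  rw [hW, e₂, h₁, h₂]
  simp only [GrpObj.comp_inv, _root_.inv_inv]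
  exact ⟨fun p X' x => ⟨p.1 X' x, p.2 X' x⟩, fun p => ⟨fun X' x => (p X' x).1, fun X' x => (p X' x).2⟩⟩

variable [IsAffine G.left] [Smooth G.hom] [ConnectedSpace G.left]
  {B T : Over (Spec (CommRingCat.of k))} [GrpObj B] [GrpObj T] (iB : B ⟶ G) (t : T ⟶ B)

omit [IsAffine G.left] in
theorem connected_geomFibre (s : Spec (CommRingCat.of k)) : ConnectedSpace (Red.geomFibre s G).left := by
  haveI : GeometricallyConnected G.hom :=
    Rigid.geometricallyConnected_of_section G.hom (η[G]).left (Over.w η[G])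
  exact GeometricallyConnected.geometrically_connectedSpace (f := G.hom) (Red.geomPt s) (pullback.fst _ _) (pullback.snd _ _)
    (IsPullback.of_hasPullback _ _)

/-- A point preserving a Borel pair centralises the torus. -/
theorem commute_of_conj (hB : Red.IsBorel iB) (hT : Red.IsMaximalTorus (t ≫ iB)) {X : Over (Spec (CommRingCat.of k))}
    (g : X ⟶ G) (hgB : Conj iB iB g) (hgT : Conj (t ≫ iB) (t ≫ iB) g)
    (X' : Over (Spec (CommRingCat.of k))) (x : X' ⟶ X) (h : X' ⟶ T) :
    (x ≫ g) * (h ≫ t ≫ iB) = (h ≫ t ≫ iB) * (x ≫ g) := by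
  haveI : IsAffineHom G.hom := isAffineHom_of_isAffine _
  haveI := hB.1; haveI := hB.2.1; haveI := hB.2.2.1
  haveI : Mono iB := (Over.forget _).mono_of_mono_map (show Mono iB.left from inferInstance)
  haveI := hT.1; haveI := hT.2.1
  have hpar : Red.IsParabolic iB := ⟨inferInstance, inferInstance, inferInstance, fun s =>
    ⟨(hB.2.2.2 s).1, (hB.2.2.2 s).2.1, (hB.2.2.2 s).2.2.1, _, inferInstance, 𝟙 _,
      by rw [Category.id_comp]; exact hB.2.2.2 s⟩⟩
  obtain ⟨b, hb⟩ := ((ParNorm.isNormalizerOf_self connected_geomFibre iB hpar).2.2 X g).2 fun X₁ x₁ h₁ =>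
    ⟨(hgB X₁ x₁).1 h₁, (hgB X₁ x₁).2 h₁⟩
  obtain ⟨h', hh'⟩ := (hgT X' x).1 h
  suffices h' = h by rw [this] at hh'; exact mul_inv_eq_iff_eq_mul.1 hh'
  -- pass to the algebraic closure
  let s : Spec (CommRingCat.of k) := IsLocalRing.closedPoint k
  let K := AlgebraicClosure ((Spec (CommRingCat.of k)).residueField s)
  let q : Spec (CommRingCat.of K) ⟶ Spec (CommRingCat.of k) := Red.geomPt s
  haveI : Surjective q := ⟨fun y => ⟨IsLocalRing.closedPoint K, Subsingleton.elim _ _⟩⟩
  let Ω : Over (Spec (CommRingCat.of k)) := Over.mk q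
  let pr : X' ⊗ Ω ⟶ X' := fst X' Ω
  haveI : Surjective pr.left := inferInstanceAs (Surjective (pullback.fst X'.hom q))
  haveI : Flat pr.left := inferInstanceAs (Flat (pullback.fst X'.hom q))
  haveI : Epi pr.left := Flat.epi_of_flat_of_surjective _
  haveI : Epi pr := (Over.forget _).epi_of_epi_map (show Epi pr.left from inferInstance)
  rw [← cancel_epi pr]
  let Y : Over (Spec (CommRingCat.of K)) := Over.mk (snd X' Ω).left
  let e : (Over.map q).obj Y ≅ X' ⊗ Ω := Over.isoMk (Iso.refl _) (by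
    show 𝟙 _ ≫ (X' ⊗ Ω).hom = (snd X' Ω).left ≫ q
    rw [Category.id_comp]
    exact (Over.w (snd X' Ω)).symm)
  rw [← cancel_epi e.hom]
  apply toBC_inj q
  -- retract to the torus
  let BK := Red.bc q B
  let TK := Red.bc q T
  let iBK : BK ⟶ Red.bc q G := (Over.pullback q).map iB
  let tK : TK ⟶ BK := (Over.pullback q).map t
  haveI : IsMonHom iBK := inferInstanceAs (IsMonHom ((Over.pullback q).map iB))
  haveI : Mono iBK := by
    haveI : PreservesLimitsOfShape WalkingCospan (Over.pullback q) :=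
      (Adjunction.rightAdjoint_preservesLimits (Over.mapPullbackAdj q)).preservesLimitsOfShape
    exact inferInstanceAs (Mono ((Over.pullback q).map iB))
  haveI := connected_geomFibre (G := G) s
  haveI : ConnectedSpace (Red.bc q G).left := connected_geomFibre (G := G) s
  haveI : Smooth (Red.bc q G).hom := inferInstanceAs (Smooth (pullback.snd G.hom _))
  haveI : IsAffineHom (Red.bc q G).hom := inferInstanceAs (IsAffineHom (pullback.snd G.hom _))
  haveI : IsAffine (Red.bc q G).left := isAffine_of_isAffineHom (Red.bc q G).hom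
  have hTK : AGF.IsMaxTorus ((Over.pullback q).map (t ≫ iB)) := Chev.MaxTorusBC.isMaxTorus_pt (t ≫ iB) hT q
  obtain ⟨π, hπ, htπ, -⟩ := Chev.Borel.exists_retraction iBK (hB.2.2.2 s) ((Over.pullback q).map (t ≫ iB)) hTK tK
    ((Over.pullback q).map_comp t iB).symm
  haveI := hπ
  have hb' : toBC q (e.hom ≫ pr ≫ x ≫ b) * (toBC q (e.hom ≫ pr ≫ h) ≫ tK) * (toBC q (e.hom ≫ pr ≫ x ≫ b))⁻¹ =
      toBC q (e.hom ≫ pr ≫ h') ≫ tK := by
    rw [← toBC_comp, ← toBC_comp, ← toBC_inv, ← toBC_mul, ← toBC_mul]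
    congr 1
    have hB' : (x ≫ b) * (h ≫ t) * (x ≫ b)⁻¹ = h' ≫ t := by
      rw [← cancel_mono iB]
      simp only [MonObj.mul_comp, GrpObj.inv_comp, Category.assoc, hb]
      exact hh'
    have := congrArg (fun z => e.hom ≫ pr ≫ z) hB'
    simpa only [MonObj.comp_mul, GrpObj.comp_inv, Category.assoc] using this
  have hπ' := congrArg (· ≫ π) hb'
  simp only [MonObj.mul_comp, GrpObj.inv_comp, Category.assoc, htπ, Category.comp_id] at hπ'
  rw [← hπ', MTBridge.comm_points_scheme TK (MTBridge.locally_of_isMultTypeFT' TK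
    (MTBridge.isMultTypeFT_of_isTorus TK hTK.2.2.1)) (toBC q (e.hom ≫ pr ≫ x ≫ b) ≫ π), mul_inv_cancel_right]

/-- **Borel pairs over a finite field are conjugate.** -/
theorem exists_conj [Finite k] {B' T' : Over (Spec (CommRingCat.of k))} [GrpObj B'] [GrpObj T'] (iB' : B' ⟶ G)
    (t' : T' ⟶ B') (hB : Red.IsBorel iB) (hB' : Red.IsBorel iB') (hT : Red.IsMaximalTorus (t ≫ iB))
    (hT' : Red.IsMaximalTorus (t' ≫ iB')) :
    ∃ g : 𝟙_ (Over (Spec (CommRingCat.of k))) ⟶ G, Conj iB iB' g ∧ Conj (t ≫ iB) (t' ≫ iB') g := by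
  haveI : IsAffineHom G.hom := isAffineHom_of_isAffine _
  haveI := hB.1; haveI := hB.2.1; haveI := hB.2.2.1; haveI := hB'.1; haveI := hB'.2.1; haveI := hB'.2.2.1
  haveI := hT.1; haveI := hT.2.1; haveI := hT'.1; haveI := hT'.2.1
  let iT := t ≫ iB
  let iT' := t' ≫ iB'
  haveI : Mono iB := (Over.forget _).mono_of_mono_map (show Mono iB.left from inferInstance)
  haveI : Mono iB' := (Over.forget _).mono_of_mono_map (show Mono iB'.left from inferInstance)
  haveI : IsMonHom iT := inferInstanceAs (IsMonHom (t ≫ iB))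
  haveI : IsMonHom iT' := inferInstanceAs (IsMonHom (t' ≫ iB'))
  haveI : Mono iT := inferInstanceAs (Mono (t ≫ iB))
  haveI : Mono iT' := inferInstanceAs (Mono (t' ≫ iB'))
  -- tori are closed subgroups with geometrically irreducible fibres
  have htor : ∀ {R : Over (Spec (CommRingCat.of k))} [GrpObj R] (j : R ⟶ G) [IsMonHom j] [Mono j], Red.IsTorus R →
      IsClosedImmersion j.left ∧ Smooth R.hom ∧ GeometricallyIrreducible R.hom := fun {R} _ j _ _ hR => by
    haveI := Chev.isAffine_of_isTorus hR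
    haveI := Chev.smooth_of_isTorus hR; haveI := Chev.connectedSpace_of_isTorus hR
    haveI : Subsingleton ↥(Spec (CommRingCat.of k)) := inferInstanceAs (Subsingleton (PrimeSpectrum k))
    haveI : Nonempty ↥(Spec (CommRingCat.of k)) := inferInstanceAs (Nonempty (PrimeSpectrum k))
    haveI : QuasiCompact j.left := inferInstance
    refine ⟨GrpField.isClosedImmersion_of_mono j, inferInstance,
      GrpField.geometricallyIrreducible_of_connected_fibres R fun s => ?_⟩
    convert (isConnected_univ : _root_.IsConnected (Set.univ : Set R.left))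
    exact Set.eq_univ_of_forall fun y => Subsingleton.elim _ _
  obtain ⟨hTc, hTs, hTg⟩ := htor iT hT.2.2.1
  obtain ⟨hTc', hTs', hTg'⟩ := htor iT' hT'.2.2.1
  haveI := hTc; haveI := hTs; haveI := hTg; haveI := hTc'; haveI := hTs'; haveI := hTg'
  have hbor : ∀ {R : Over (Spec (CommRingCat.of k))} [GrpObj R] (j : R ⟶ G), Red.IsBorel j →
      GeometricallyIrreducible R.hom := fun {R} _ j hj => by
    haveI := hj.1; haveI := hj.2.1; haveI := hj.2.2.1
    refine GrpField.geometricallyIrreducible_of_connected_fibres R (ParNorm.isConnected_fibre R fun s => ?_)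
    exact (hj.2.2.2 s).2.2.2.1
  haveI := hbor iB hB; haveI := hbor iB' hB'
  obtain ⟨W₁, w₁, hw₁c, hw₁f, hW₁⟩ := exists_strictTransporter iB iB'
  obtain ⟨W₂, w₂, hw₂c, hw₂f, hW₂⟩ := exists_strictTransporter iT iT'
  obtain ⟨W, w, hwc, hwf, hW⟩ := ClosedRep.exists_closed_inter_lfp w₁ w₂
  have hWX : ∀ (X : Over (Spec (CommRingCat.of k))) (g : X ⟶ G),
      (∃ z, z ≫ w = g) ↔ Conj iB iB' g ∧ Conj iT iT' g := fun X g => by rw [hW, hW₁, hW₂]
  haveI : Mono w := (Over.forget _).mono_of_mono_map (show Mono w.left from inferInstance)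
  haveI : LocallyOfFiniteType W.hom := by rw [← Over.w w]; infer_instance
  -- the stabiliser of the pair is the centralizer of the torus
  obtain ⟨C, _, c, hC, hcc, hcart, -⟩ := S4118.result (Spec (CommRingCat.of k)) G T iT hT
  haveI := hC.1; haveI := hC.2.1; haveI := hcc; haveI := hcart.2.2.1
  haveI : IsAffine C.left := isAffine_of_isAffineHom c.left
  obtain ⟨cB, hcB⟩ := S3932.result k G T iT hT C c hC B iB hB t rfl
  have hCfwd : ∀ (X : Over (Spec (CommRingCat.of k))) (y : X ⟶ C), Conj iB iB (y ≫ c) ∧ Conj iT iT (y ≫ c) :=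
    fun X y => by
    refine ⟨fun X' x => ⟨fun a => ⟨(x ≫ y ≫ cB) * a * (x ≫ y ≫ cB)⁻¹, ?_⟩,
      fun a => ⟨(x ≫ y ≫ cB)⁻¹ * a * (x ≫ y ≫ cB), ?_⟩⟩, fun X' x => ⟨fun a => ⟨a, ?_⟩, fun a => ⟨a, ?_⟩⟩⟩
    · simp only [MonObj.mul_comp, GrpObj.inv_comp, Category.assoc, hcB]
    · simp only [MonObj.mul_comp, GrpObj.inv_comp, Category.assoc, hcB]
    · rw [(hC.2.2 X (y ≫ c)).1 ⟨y, rfl⟩ X' x a]; group
    · rw [_root_.mul_assoc, ← (hC.2.2 X (y ≫ c)).1 ⟨y, rfl⟩ X' x a]; group
  have hCbwd : ∀ (X : Over (Spec (CommRingCat.of k))) (g : X ⟶ G), Conj iB iB g → Conj iT iT g →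
      ∃ y : X ⟶ C, y ≫ c = g := fun X g h₁ h₂ => (hC.2.2 X g).2 (commute_of_conj iB t hB hT g h₁ h₂)
  -- the action
  obtain ⟨act, hact⟩ := (hWX (C ⊗ W) ((snd C W ≫ w) * (fst C W ≫ c)⁻¹)).2 (by
    obtain ⟨h₁, h₂⟩ := (hWX _ (snd C W ≫ w)).1 ⟨snd C W, rfl⟩
    obtain ⟨h₃, h₄⟩ := hCfwd _ (fst C W)
    exact ⟨h₃.inv.mul h₁, h₄.inv.mul h₂⟩)
  have hact' : ∀ {Z : Over (Spec (CommRingCat.of k))} (y : Z ⟶ C) (z : Z ⟶ W),
      lift y z ≫ act ≫ w = (z ≫ w) * (y ≫ c)⁻¹ := fun {Z} y z => by
    rw [hact]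
    simp only [MonObj.comp_mul, GrpObj.comp_inv, lift_fst_assoc, lift_snd_assoc]
  let a : AlgGrp.Action C W :=
    { act := act
      one_act := by
        rw [← cancel_mono w, Category.assoc, hact]
        simp only [MonObj.comp_mul, GrpObj.comp_inv, whiskerRight_fst_assoc, whiskerRight_snd_assoc, IsMonHom.one_hom,
          leftUnitor_hom]
        rw [show fst (𝟙_ _) W ≫ η[G] = (1 : _ ⟶ G) by rw [Hom.one_def, toUnit_unique (toUnit _) (fst (𝟙_ _) W)],
          inv_one, _root_.mul_one]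
      mul_act := by
        rw [← cancel_mono w, Category.assoc, Category.assoc, Category.assoc, hact, MonObj.comp_mul, GrpObj.comp_inv]
        have e : (α_ C C W).hom ≫ (C ◁ act) =
            lift (fst _ _ ≫ fst C C) (lift (fst _ _ ≫ snd C C) (snd _ _) ≫ act) := by
          apply CartesianMonoidalCategory.hom_ext
          · simp
          · simp only [Category.assoc, whiskerLeft_snd, lift_snd]
            rw [← Category.assoc]
            congr 1
            apply CartesianMonoidalCategory.hom_ext <;> simp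
        rw [← Category.assoc (α_ C C W).hom (C ◁ act), e]
        simp only [GrpObj.comp_inv, lift_fst_assoc, lift_snd_assoc, hact', whiskerRight_fst_assoc, whiskerRight_snd_assoc,
          show (μ[C] : C ⊗ C ⟶ C) = fst C C * snd C C by rw [Hom.mul_def, lift_fst_snd, Category.id_comp],
          MonObj.comp_mul, MonObj.mul_comp, Category.assoc, _root_.mul_inv_rev, _root_.mul_assoc] }
  -- torsor
  have hiso : IsIso (lift a.act (snd C W)) := by
    have hp1 : Conj iB iB' (fst W W ≫ w) ∧ Conj iT iT' (fst W W ≫ w) := (hWX _ _).1 ⟨fst W W, rfl⟩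
    have hp2 : Conj iB iB' (snd W W ≫ w) ∧ Conj iT iT' (snd W W ≫ w) := (hWX _ _).1 ⟨snd W W, rfl⟩
    obtain ⟨d, hd⟩ := hCbwd (W ⊗ W) ((fst W W ≫ w)⁻¹ * (snd W W ≫ w))
      (hp2.1.mul hp1.1.inv) (hp2.2.mul hp1.2.inv)
    refine ⟨lift d (snd W W), ?_, ?_⟩
    · apply CartesianMonoidalCategory.hom_ext
      · rw [Category.assoc, lift_fst, ← cancel_mono c, Category.assoc, hd]
        simp only [MonObj.comp_mul, GrpObj.comp_inv, lift_fst_assoc, lift_snd_assoc, Category.id_comp, a, hact,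
          _root_.mul_inv_rev, _root_.inv_inv, inv_mul_cancel_right]
      · simp
    · apply CartesianMonoidalCategory.hom_ext
      · rw [Category.assoc, lift_fst, ← cancel_mono w, Category.assoc, hact', hd, Category.id_comp]
        group
      · simp
  -- connectedness and a geometric point
  let s : Spec (CommRingCat.of k) := IsLocalRing.closedPoint k
  let K := AlgebraicClosure ((Spec (CommRingCat.of k)).residueField s)
  let q : Spec (CommRingCat.of K) ⟶ Spec (CommRingCat.of k) := Red.geomPt s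
  haveI : Surjective q := ⟨fun y => ⟨IsLocalRing.closedPoint K, Subsingleton.elim _ _⟩⟩
  haveI : ConnectedSpace (Red.bc q G).left := connected_geomFibre (G := G) s
  haveI : Smooth (Red.bc q G).hom := inferInstanceAs (Smooth (pullback.snd G.hom _))
  haveI : IsAffineHom (Red.bc q G).hom := inferInstanceAs (IsAffineHom (pullback.snd G.hom _))
  haveI : IsAffine (Red.bc q G).left := isAffine_of_isAffineHom (Red.bc q G).hom
  haveI : PreservesLimitsOfShape WalkingCospan (Over.pullback q) :=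
    (Adjunction.rightAdjoint_preservesLimits (Over.mapPullbackAdj q)).preservesLimitsOfShape
  haveI : ConnectedSpace C.left := by
    obtain ⟨-, -, -, hconn, -⟩ := Chev.Borel.centralizer_torus ((Over.pullback q).map iT)
      (Chev.Borel.isTorus_bc_scheme T q hT.2.2.1) ((Over.pullback q).map c) (Chev.CentBC.isCentralizerOf_bc q iT c hC)
    haveI : ConnectedSpace ↥(pullback C.hom q) := hconn inferInstance
    exact Function.Surjective.connectedSpace (pullback.fst C.hom q).surjective (pullback.fst C.hom q).continuous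
  obtain ⟨g, f, f', hf, hf'⟩ := Chev.Borel.borelPair_conj ((Over.pullback q).map iB) ((Over.pullback q).map iB')
    (hB.2.2.2 s) (hB'.2.2.2 s) ((Over.pullback q).map iT) ((Over.pullback q).map iT')
    (Chev.MaxTorusBC.isMaxTorus_pt iT hT q) (Chev.MaxTorusBC.isMaxTorus_pt iT' hT' q)
    ((Over.pullback q).map t) ((Over.pullback q).map_comp t iB).symm
    ((Over.pullback q).map t') ((Over.pullback q).map_comp t' iB').symm
  obtain ⟨g₀, rfl⟩ := exists_toBC' q g
  let Ω : Over (Spec (CommRingCat.of k)) := (Over.map q).obj (𝟙_ (Over (Spec (CommRingCat.of K))))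
  have htr : ∀ {R R' : Over (Spec (CommRingCat.of k))} (j : R ⟶ G) (j' : R' ⟶ G) (f : Red.bc q R ≅ Red.bc q R'),
      f.hom ≫ (Over.pullback q).map j' = AGF.conjBy (toBC q g₀) ((Over.pullback q).map j) → Conj j j' g₀ := by
    intro R R' j j' f hf X' x
    let Y : Over (Spec (CommRingCat.of K)) := Over.mk x.left
    let e : (Over.map q).obj Y ≅ X' := Over.isoMk (Iso.refl _) (by
      show 𝟙 _ ≫ X'.hom = x.left ≫ q
      rw [Category.id_comp]
      exact (Over.w x).symm)
    have hx : e.hom ≫ x = (Over.map q).map (toUnit Y) := Over.OverMorphism.ext (Category.id_comp _)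
    have hY : ∀ z : Y ⟶ Red.bc q R, z ≫ f.hom ≫ (Over.pullback q).map j' =
        toBC q (e.hom ≫ x ≫ g₀) * (z ≫ (Over.pullback q).map j) * (toBC q (e.hom ≫ x ≫ g₀))⁻¹ := fun z => by
      rw [hf, Chev.Borel.comp_conjBy, ← Category.assoc e.hom, hx, toBC_precomp]
    constructor
    · intro a
      obtain ⟨a', ha'⟩ := exists_toBC' q (toBC q (e.hom ≫ a) ≫ f.hom)
      refine ⟨e.inv ≫ a', ?_⟩
      rw [← cancel_epi e.hom, Category.assoc e.inv, e.hom_inv_id_assoc]
      apply toBC_inj q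
      simp only [MonObj.comp_mul, GrpObj.comp_inv, toBC_mul, toBC_inv]
      rw [toBC_comp q j' a', ha', Category.assoc, hY, ← Category.assoc e.hom a, toBC_comp q j]
    · intro a
      obtain ⟨a', ha'⟩ := exists_toBC' q (toBC q (e.hom ≫ a) ≫ f.inv)
      refine ⟨e.inv ≫ a', ?_⟩
      rw [← cancel_epi e.hom, Category.assoc e.inv, e.hom_inv_id_assoc]
      apply toBC_inj q
      simp only [MonObj.comp_mul, GrpObj.comp_inv, toBC_mul, toBC_inv]
      have h1 := hY (toBC q a')
      rw [ha', Category.assoc, f.inv_hom_id_assoc, ← toBC_comp] at h1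
      rw [toBC_comp q j a', ha', ← Category.assoc e.hom a, h1]
      group
  obtain ⟨z, -⟩ := (hWX Ω g₀).2 ⟨htr iB iB' f hf, htr iT iT' f' hf'⟩
  haveI : Nonempty W.left := ⟨z.left (IsLocalRing.closedPoint K)⟩
  obtain ⟨p⟩ := S3935.result k C W a hiso
  exact ⟨p ≫ w, (hWX _ _).1 ⟨p, rfl⟩⟩

/-- A strict conjugation gives an isomorphism. -/
theorem exists_iso_of_conj {R R' : Over (Spec (CommRingCat.of k))} (j : R ⟶ G) (j' : R' ⟶ G) [Mono j] [Mono j']
    (g : 𝟙_ (Over (Spec (CommRingCat.of k))) ⟶ G) (h : Conj j j' g) :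
    ∃ f : R ≅ R', f.hom ≫ j' = AGF.conjBy g j := by
  have hpt : ∀ {Z : Over (Spec (CommRingCat.of k))} (z : Z ⟶ R), z ≫ AGF.conjBy g j =
      (toUnit Z ≫ g) * (z ≫ j) * (toUnit Z ≫ g)⁻¹ := fun z => by
    rw [AGF.conjBy, MonObj.comp_mul, MonObj.comp_mul, GrpObj.comp_inv, ← Category.assoc,
      toUnit_unique (z ≫ toUnit R) (toUnit _)]
  obtain ⟨f, hf⟩ := (h R (toUnit R)).1 (𝟙 R)
  obtain ⟨f', hf'⟩ := (h R' (toUnit R')).2 (𝟙 R')
  rw [Category.id_comp] at hf hf'
  refine ⟨⟨f, f', ?_, ?_⟩, ?_⟩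
  · rw [← cancel_mono j, Category.assoc, ← hf']
    simp only [MonObj.comp_mul, GrpObj.comp_inv]
    rw [← hf, ← Category.assoc, toUnit_unique (f ≫ toUnit R') (toUnit R), Category.id_comp]
    group
  · rw [← cancel_mono j', Category.assoc, ← hf]
    simp only [MonObj.comp_mul, GrpObj.comp_inv]
    rw [← hf', ← Category.assoc, toUnit_unique (f' ≫ toUnit R) (toUnit R'), Category.id_comp]
    group
  · show f ≫ j' = _
    rw [← hf, AGF.conjBy]

end Groth.Agent.BPair
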