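import Groth.Agent.BPair.Twist
import Groth.Agent.BPair.Main
import Groth.Agent.Chev.MaxTori
import Groth.Agent.Chev.BorelKernel
import Groth.Agent.Chev.TorusImage

/-!
# Borel pairs over finite fields
-/

set_option autoImplicit false
set_option linter.style.haveILetI false
set_option backward.isDefEq.respectTransparency false
set_option maxHeartbeats 1000000
set_option synthInstance.maxHeartbeats 400000

universe u

open CategoryTheory CategoryTheory.Limits MonoidalCategory CartesianMonoidalCategory MonObj GrpObj AlgebraicGeometry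
open Groth.Agent.MTBridge (toBC toBC_mul toBC_comp toBC_precomp toBC_inv exists_toBC' toBC_inj)
open Groth.Agent.LangMap (specOver specHom frob frob_apply)

noncomputable section

namespace Groth.Agent.BPair

variable {k : Type u} [Field k] [Finite k] {G : Over (Spec (CommRingCat.of k))} [GrpObj G] [IsAffine G.left]
  [Smooth G.hom] [ConnectedSpace G.left]

/-- **Borel pairs defined over a finite field**, seen at a given algebraic closure. -/
theorem exists_borelPair {K : Type u} [Field K] [IsAlgClosed K] (q : Spec (CommRingCat.of K) ⟶ Spec (CommRingCat.of k))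
    [IsIntegralHom q] :
    ∃ (B : Over (Spec (CommRingCat.of k))) (_ : GrpObj B) (iB : B ⟶ G) (T : Over (Spec (CommRingCat.of k)))
      (_ : GrpObj T) (t : T ⟶ B), IsMonHom iB ∧ IsClosedImmersion iB.left ∧ Smooth B.hom ∧
      IsMonHom (t ≫ iB) ∧ Mono (t ≫ iB) ∧ Red.IsTorus T ∧
      Red.IsBorelOver K ((Over.pullback q).map iB) ∧ AGF.IsMaxTorus ((Over.pullback q).map (t ≫ iB)) := by
  obtain ⟨a, rfl⟩ : ∃ a, Spec.map a = q := ⟨_, Spec.map_preimage q⟩
  letI : Algebra k K := a.hom.toAlgebra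
  haveI : Algebra.IsIntegral k K := ⟨IsIntegralHom.SpecMap_iff.1 ‹IsIntegralHom (Spec.map a)›⟩
  haveI : Algebra.IsAlgebraic k K := inferInstance
  let q := qK k K
  have hq : Spec.map a = q := rfl
  haveI : IsAffineHom G.hom := isAffineHom_of_isAffine _
  haveI : IsAffineHom (Red.bc q G).hom := MorphismProperty.pullback_snd (P := @IsAffineHom) _ _ ‹_›
  haveI : IsAffine (Red.bc q G).left := isAffine_of_isAffineHom (Red.bc q G).hom
  haveI : Smooth (Red.bc q G).hom := inferInstanceAs (Smooth (pullback.snd G.hom q))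
  haveI : GeometricallyConnected G.hom := Rigid.geometricallyConnected_of_section G.hom (η[G]).left (Over.w η[G])
  haveI : ConnectedSpace (Red.bc q G).left :=
    GeometricallyConnected.geometrically_connectedSpace (f := G.hom) q (pullback.fst _ _) (pullback.snd _ _)
      (IsPullback.of_hasPullback _ _)
  obtain ⟨T, B, hTg, hBg, t, b, -, htc, hb, htor, -⟩ := Chev.Borel.exists_maxTorus (Red.bc q G)
  haveI := htc; haveI := hb.1; haveI := hb.2.1
  -- the Frobenius
  let φ := frob (k := k) K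
  haveI : IsIso (specHom φ).left := by
    haveI : IsIso (CommRingCat.ofHom φ.toRingHom) :=
      (ConcreteCategory.isIso_iff_bijective _).2 (Algebra.IsAlgebraic.algHom_bijective φ)
    exact inferInstanceAs (IsIso (Spec.map (CommRingCat.ofHom φ.toRingHom)))
  obtain ⟨Bσ, Tσ, _, _, bσ, tσ, hbσ, htσ, hkB, hkT⟩ := exists_twist φ b t hb htor
  obtain ⟨c, fB, fT, hfB, hfT⟩ :=
    Chev.Borel.borelPair_conj b bσ hb hbσ (t ≫ b) (tσ ≫ bσ) htor htσ t rfl tσ rfl
  obtain ⟨g₀, rfl⟩ := pt_surjective c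
  -- Lang
  obtain ⟨F, hF⟩ := LangMap.exists_frob G
  haveI := LangMap.isMonHom_frob F hF
  obtain ⟨x, hx⟩ := LangMap.exists_lang_eq F hF g₀⁻¹
  obtain ⟨h, hh⟩ : ∃ h : specOver k K ⟶ G, (specHom φ ≫ h) * g₀ = h := by
    refine ⟨x⁻¹, ?_⟩
    rw [← LangMap.comp_frob F hF, GrpObj.inv_comp, ← eq_inv_mul_iff_mul_eq, _root_.inv_inv, ← _root_.inv_inj,
      _root_.mul_inv_rev, _root_.inv_inv, ← hx]
  -- fixedness
  have fixed : ∀ {H H' : Over (Spec (CommRingCat.of K))} (i : H ⟶ Red.bc q G) (i' : H' ⟶ Red.bc q G)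
      (f : H ≅ H'), f.hom ≫ i' = AGF.conjBy (pt g₀) i →
      (∀ g : specOver k K ⟶ G, (∃ z, z ≫ i = pt g) → ∃ z, z ≫ i' = pt (specHom φ ≫ g)) →
      ∀ g : specOver k K ⟶ G, (∃ z, z ≫ AGF.conjBy (pt h) i = pt g) →
        ∃ z, z ≫ AGF.conjBy (pt h) i = pt (specHom φ ≫ g) := by
    intro H H' i i' f hf hk g
    rintro ⟨z, hz⟩
    rw [Chev.Borel.comp_conjBy, toUnit_unique (toUnit (𝟙_ _)) (𝟙 _), Category.id_comp] at hz
    obtain ⟨w, hw⟩ := hk (h⁻¹ * g * h) ⟨z, by rw [pt_mul, pt_mul, pt_inv, ← hz]; group⟩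
    refine ⟨w ≫ f.inv, ?_⟩
    rw [Chev.Borel.comp_conjBy, toUnit_unique (toUnit (𝟙_ _)) (𝟙 _), Category.id_comp]
    have e := congrArg (fun v => (w ≫ f.inv) ≫ v) hf
    rw [Chev.Borel.comp_conjBy, toUnit_unique (toUnit (𝟙_ _)) (𝟙 _), Category.id_comp] at e
    simp only [Category.assoc, Iso.inv_hom_id_assoc, hw] at e
    have hg : specHom φ ≫ g = h * (g₀⁻¹ * (specHom φ ≫ (h⁻¹ * g * h)) * g₀) * h⁻¹ := by
      simp only [MonObj.comp_mul, GrpObj.comp_inv]
      rw [eq_mul_inv_of_mul_eq hh]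
      group
    rw [hg, pt_mul, pt_mul, pt_mul, pt_mul, pt_inv, pt_inv, e]
    simp only [Category.assoc]
    group
  let bh : B ⟶ Red.bc q G := AGF.conjBy (pt h) b
  have hbh : Red.IsBorelOver K bh := Chev.Borel.isBorelOver_conjBy (pt h) b hb
  haveI := hbh.1; haveI := hbh.2.1; haveI := hbh.2.2.1
  have hth : AGF.IsMaxTorus (t ≫ bh) := by
    rw [Chev.Borel.comp_conjBy']
    exact Chev.Borel.isMaxTorus_conjBy (pt h) (t ≫ b) htor
  haveI := hth.1; haveI := hth.2.1
  haveI : IsClosedImmersion (t ≫ bh).left := inferInstanceAs (IsClosedImmersion (t.left ≫ bh.left))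
  haveI : Smooth T.hom := Chev.smooth_of_isTorus hth.2.2.1
  obtain ⟨B₀, _, j, hjm, hjc, hB₀s, eB, heB⟩ := exists_descend bh (fixed b bσ fB hfB hkB)
  obtain ⟨T₀, _, jT, hjTm, hjTc, hT₀s, eT, heT⟩ := exists_descend (t ≫ bh) (by
    rw [show t ≫ bh = AGF.conjBy (pt h) (t ≫ b) from Chev.Borel.comp_conjBy' _ _ _]
    exact fixed (t ≫ b) (tσ ≫ bσ) fT hfT hkT)
  haveI := hjm; haveI := hjc; haveI := hB₀s; haveI := hjTm; haveI := hjTc; haveI := hT₀s
  haveI : Mono j := (Over.forget _).mono_of_mono_map (show Mono j.left from inferInstance)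
  haveI : Mono jT := (Over.forget _).mono_of_mono_map (show Mono jT.left from inferInstance)
  haveI : IsMonHom ((Over.pullback q).map j) := inferInstance
  haveI : IsMonHom ((Over.pullback q).map jT) := inferInstance
  haveI : PreservesLimitsOfShape WalkingCospan (Over.pullback q) :=
    (Adjunction.rightAdjoint_preservesLimits (Over.mapPullbackAdj q)).preservesLimitsOfShape
  haveI : Mono ((Over.pullback q).map j) := inferInstance
  haveI : QuasiCompact (Red.bc q G).hom := inferInstance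
  -- the torus lands in the Borel subgroup
  haveI : IsReduced T₀.left := SmoothRed.isReduced_of_smooth_scheme T₀.hom
  haveI : Surjective q := ⟨fun _ => ⟨IsLocalRing.closedPoint K, Subsingleton.elim (α := PrimeSpectrum k) _ _⟩⟩
  haveI : Surjective (pullback.fst T₀.hom q) := MorphismProperty.pullback_fst _ _ ‹_›
  obtain ⟨t₀, ht₀⟩ := GrpAct.exists_factor j.left jT.left (by
    rintro _ ⟨p, rfl⟩
    obtain ⟨p', rfl⟩ := (pullback.fst T₀.hom q).surjective p
    refine ⟨((eT.hom ≫ t ≫ eB.inv).left ≫ pullback.fst B₀.hom q) p', ?_⟩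
    have e : (eT.hom ≫ t ≫ eB.inv) ≫ (Over.pullback q).map j = (Over.pullback q).map jT := by
      rw [← heT, ← heB]; simp
    have hfst : ∀ {Y : Over (Spec (CommRingCat.of k))} (u : Y ⟶ G),
        ((Over.pullback q).map u).left ≫ pullback.fst G.hom q = pullback.fst Y.hom q ≫ u.left := fun u =>
      pullback.lift_fst _ _ _
    rw [← Scheme.Hom.comp_apply, ← Scheme.Hom.comp_apply, ← hfst jT, ← e, Category.assoc, ← hfst j]
    simp only [Over.comp_left, Category.assoc]
    rfl)
  let t₀' : T₀ ⟶ B₀ := Over.homMk t₀ (by rw [← Over.w j, ← Category.assoc, ht₀, Over.w jT])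
  have ht₀' : t₀' ≫ j = jT := Over.OverMorphism.ext ht₀
  haveI : IsMonHom eT.hom := MTTorus.isMonHom_of_mul eT.hom fun u v => by
    rw [← cancel_mono (t ≫ bh), Category.assoc, heT, MonObj.mul_comp, MonObj.mul_comp, Category.assoc, Category.assoc,
      heT]
  haveI : IsMonHom eT.inv := inferInstance
  haveI : IsMonHom eT.symm.hom := inferInstanceAs (IsMonHom eT.inv)
  have hT₀K : Red.IsTorus (Red.bc q T₀) := Chev.Borel.isTorus_of_iso eT.symm hth.2.2.1
  have hT₀ : Red.IsTorus T₀ := by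
    obtain ⟨r, hr⟩ := Chev.Borel.split_of_isTorus hT₀K
    exact Chev.isTorus_of_isSplit q hr
  refine ⟨B₀, inferInstance, j, T₀, inferInstance, t₀', inferInstance, inferInstance, inferInstance,
    by rw [ht₀']; infer_instance, by rw [ht₀']; infer_instance, hT₀, ?_, ?_⟩
  · exact Chev.Borel.isBorelOver_of_iso eB.symm bh _ (by show eB.inv ≫ _ = bh; rw [Iso.inv_comp_eq]; exact heB.symm) hbh
  · rw [ht₀']
    haveI : IsMonHom (Iso.refl (Red.bc q G)).hom := inferInstanceAs (IsMonHom (𝟙 _))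
    refine Chev.MaxTorusBC.isMaxTorus_of_iso eT.symm (Iso.refl _) (t ≫ bh) _ ?_ hT₀K hth
    show (t ≫ bh) ≫ 𝟙 _ = eT.inv ≫ (Over.pullback q).map jT
    rw [Category.comp_id, ← heT, Iso.inv_hom_id_assoc]

end Groth.Agent.BPair
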