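import Groth.Agent.BPair.Descend
import Groth.Agent.Chev.GeomPtIso
import Groth.Agent.Chev.MaxTorusBC
import Groth.Agent.Chev.Parabolic

/-!
# Twisting a Borel pair by an automorphism of the ground field
-/

set_option autoImplicit false
set_option linter.style.haveILetI false
set_option backward.isDefEq.respectTransparency false
set_option maxHeartbeats 1000000
set_option synthInstance.maxHeartbeats 400000

universe u

open CategoryTheory CategoryTheory.Limits MonoidalCategory CartesianMonoidalCategory MonObj GrpObj AlgebraicGeometry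
open Groth.Agent.MTBridge (toBC toBC_mul toBC_comp toBC_precomp toBC_inv exists_toBC' toBC_inj)
open Groth.Agent.LangMap (specOver specHom)
open Groth.Agent.Chev.Borel (backHom backHom_naturality isMonHom_backHom isIso_backHom)

noncomputable section

namespace Groth.Agent.BPair

section Iso

variable {K L : Type u} [Field K] [Field L] (σ : Spec (CommRingCat.of L) ⟶ Spec (CommRingCat.of K)) [IsIso σ]
  {B : Over (Spec (CommRingCat.of K))}

theorem connected_bc_iso [ConnectedSpace B.left] : ConnectedSpace (Red.bc σ B).left := by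
  haveI : IsIso (pullback.fst B.hom σ) := inferInstance
  exact (Scheme.homeoOfIso (asIso (pullback.fst B.hom σ))).symm.surjective.connectedSpace
    (Scheme.homeoOfIso (asIso (pullback.fst B.hom σ))).symm.continuous

omit [IsIso σ] in
theorem isSolvableGrp_bc [GrpObj B] (h : Red.IsSolvableGrp B) : Red.IsSolvableGrp (Red.bc σ B) := by
  obtain ⟨n, hn⟩ := h
  refine ⟨n, fun X => ?_⟩
  let f : ((Over.map σ).obj X ⟶ B) →* (X ⟶ Red.bc σ B) := MonoidHom.mk' (fun a => toBC σ a) fun a b => toBC_mul σ a b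
  have hf : Function.Surjective f := fun y => exists_toBC' σ y
  rw [← map_derivedSeries_eq hf n, hn, Subgroup.map_bot]

/-- Borel subgroups are stable under a change of algebraically closed field by an isomorphism. -/
theorem isBorelOver_bc_iso {G : Over (Spec (CommRingCat.of K))} [GrpObj G] [GrpObj B] (b : B ⟶ G)
    (h : Red.IsBorelOver K b) : Red.IsBorelOver L ((Over.pullback σ).map b) := by
  obtain ⟨hm, hc, hs, hconn, hsol, hmax⟩ := h
  haveI := hm; haveI := hc; haveI := hs; haveI := hconn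
  have hwτ : inv σ ≫ σ = 𝟙 _ := IsIso.inv_hom_id σ
  refine ⟨inferInstance, MorphismProperty.of_isPullback (P := @IsClosedImmersion) (MTImage.isPullback_map b σ) hc,
    inferInstanceAs (Smooth (pullback.snd B.hom σ)), connected_bc_iso σ, isSolvableGrp_bc σ hsol,
    fun B' _ i' _ f hi' hs' hc' hsol' hf => ?_⟩
  haveI := hi'; haveI := hs'; haveI := hc'
  haveI := isMonHom_backHom σ (inv σ) hwτ G
  haveI := isIso_backHom σ (inv σ) hwτ G
  haveI := isMonHom_backHom σ (inv σ) hwτ B
  haveI := isIso_backHom σ (inv σ) hwτ B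
  haveI : IsMonHom (asIso (backHom σ (inv σ) hwτ G)).hom := isMonHom_backHom σ (inv σ) hwτ G
  haveI : IsMonHom (inv (backHom σ (inv σ) hwτ G)) := inferInstanceAs (IsMonHom (asIso (backHom σ (inv σ) hwτ G)).inv)
  haveI : IsIso (inv (backHom σ (inv σ) hwτ G)).left :=
    inferInstanceAs (IsIso ((Over.forget _).map (inv (backHom σ (inv σ) hwτ G))))
  let F := Over.pullback (inv σ)
  haveI : IsClosedImmersion (F.map i').left :=
    MorphismProperty.of_isPullback (P := @IsClosedImmersion) (MTImage.isPullback_map i' (inv σ)) hi'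
  haveI : IsClosedImmersion (F.map i' ≫ inv (backHom σ (inv σ) hwτ G)).left :=
    inferInstanceAs (IsClosedImmersion ((F.map i').left ≫ (inv (backHom σ (inv σ) hwτ G)).left))
  haveI : IsIso (backHom σ (inv σ) hwτ B ≫ F.map f) :=
    hmax (F.obj B') (F.map i' ≫ inv (backHom σ (inv σ) hwτ G)) (backHom σ (inv σ) hwτ B ≫ F.map f)
      inferInstance (inferInstanceAs (Smooth (pullback.snd B'.hom (inv σ)))) (connected_bc_iso (inv σ))
      (isSolvableGrp_bc (inv σ) hsol') (by
        rw [Category.assoc, ← Category.assoc (F.map f), ← F.map_comp, hf, ← Category.assoc, ← backHom_naturality,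
          Category.assoc, IsIso.hom_inv_id, Category.comp_id])
  haveI : IsIso (F.map f) := IsIso.of_isIso_comp_left (backHom σ (inv σ) hwτ B) (F.map f)
  exact Chev.Borel.isIso_of_isIso_pullback (inv σ) f

end Iso

section Twist

variable {k K : Type u} [Field k] [Field K] [Algebra k K] [IsAlgClosed K] {G : Over (Spec (CommRingCat.of k))}
  [GrpObj G]

/-- **Twisting a Borel pair by an automorphism.** -/
theorem exists_twist [LocallyOfFiniteType G.hom] [QuasiCompact G.hom] (φ : K →ₐ[k] K) [IsIso (specHom φ).left]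
    {B T : Over (Spec (CommRingCat.of K))} [GrpObj B] [GrpObj T]
    (b : B ⟶ Red.bc (qK k K) G) (t : T ⟶ B) (hb : Red.IsBorelOver K b) (ht : AGF.IsMaxTorus (t ≫ b)) :
    ∃ (B' T' : Over (Spec (CommRingCat.of K))) (_ : GrpObj B') (_ : GrpObj T') (b' : B' ⟶ Red.bc (qK k K) G)
      (t' : T' ⟶ B'), Red.IsBorelOver K b' ∧ AGF.IsMaxTorus (t' ≫ b') ∧
      (∀ g : specOver k K ⟶ G, (∃ z, z ≫ b = pt g) → ∃ z, z ≫ b' = pt (specHom φ ≫ g)) ∧
      ∀ g : specOver k K ⟶ G, (∃ z, z ≫ t ≫ b = pt g) → ∃ z, z ≫ t' ≫ b' = pt (specHom φ ≫ g) := by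
  let σ := (specHom φ).left
  haveI : IsIso σ := ‹_›
  have hσ : σ ≫ qK k K = qK k K := Over.w (specHom φ)
  haveI := hb.1; haveI := hb.2.1; haveI := hb.2.2.1; haveI := ht.1; haveI := ht.2.1
  haveI : LocallyOfFiniteType (Red.bc (qK k K) G).hom := inferInstanceAs (LocallyOfFiniteType (pullback.snd G.hom _))
  haveI : QuasiCompact (Red.bc (qK k K) G).hom := inferInstanceAs (QuasiCompact (pullback.snd G.hom _))
  obtain ⟨e, he, he'⟩ := Chev.MaxTorusBC.exists_trIso hσ G
  haveI : IsMonHom e.hom := he'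
  haveI : IsMonHom e.inv := inferInstance
  haveI : IsMonHom e.symm.hom := inferInstanceAs (IsMonHom e.inv)
  haveI : IsIso e.inv.left := ((Over.forget _).mapIso e).isIso_inv
  let F := Over.pullback σ
  have hB₀ : Red.IsBorelOver K (F.map b) := isBorelOver_bc_iso σ b hb
  haveI := hB₀.1; haveI := hB₀.2.1
  let b' : Red.bc σ B ⟶ Red.bc (qK k K) G := F.map b ≫ e.inv
  haveI : IsClosedImmersion b'.left := inferInstanceAs (IsClosedImmersion ((F.map b).left ≫ e.inv.left))
  haveI : IsMonHom b' := inferInstanceAs (IsMonHom (F.map b ≫ e.inv))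
  haveI : Mono b' := (Over.forget _).mono_of_mono_map (show Mono b'.left from inferInstance)
  have key : ∀ {H : Over (Spec (CommRingCat.of K))} (i : H ⟶ Red.bc (qK k K) G) (g : specOver k K ⟶ G),
      (∃ z, z ≫ i = pt g) → ∃ z, z ≫ F.map i ≫ e.inv = pt (specHom φ ≫ g) := by
    intro H i g
    rintro ⟨z, hz⟩
    refine ⟨toBC σ (toUnit ((Over.map σ).obj (𝟙_ _)) ≫ z), ?_⟩
    rw [← Category.assoc, Iso.comp_inv_eq, he, ← Chev.MaxTorusExt.tr_naturality, Category.comp_id, ← toBC_comp,
      Category.assoc, hz]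
    unfold pt
    rw [← toBC_precomp (qK k K), Chev.MaxTorusExt.tr_toBC]
    congr 2
  have ht₀ : AGF.IsMaxTorus (F.map (t ≫ b)) :=
    Chev.MaxTorusBC.isMaxTorus_pt (t ≫ b) (Chev.Borel.isMaximalTorus_of_isMaxTorus (t ≫ b) ht) σ
  have htt : AGF.IsMaxTorus (F.map t ≫ b') := by
    haveI : IsMonHom (Iso.refl (F.obj T)).hom := inferInstanceAs (IsMonHom (𝟙 (F.obj T)))
    refine Chev.MaxTorusBC.isMaxTorus_of_iso (Iso.refl _) e.symm (F.map (t ≫ b)) _ ?_
      (Chev.Borel.isTorus_bc_scheme T σ ht.2.2.1) ht₀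
    show F.map (t ≫ b) ≫ e.inv = 𝟙 _ ≫ F.map t ≫ F.map b ≫ e.inv
    rw [Category.id_comp, F.map_comp, Category.assoc]
  refine ⟨Red.bc σ B, Red.bc σ T, inferInstance, inferInstance, b', F.map t, ?_, htt, key b, fun g hg => ?_⟩
  · refine ⟨inferInstance, inferInstance, hB₀.2.2.1, hB₀.2.2.2.1, hB₀.2.2.2.2.1,
      fun B' _ i' _ f hi' hs' hc' hsol' hf => ?_⟩
    haveI : IsIso e.hom.left := ((Over.forget _).mapIso e).isIso_hom
    haveI := hi'
    exact hB₀.2.2.2.2.2 B' (i' ≫ e.hom) f (inferInstanceAs (IsClosedImmersion (i'.left ≫ e.hom.left))) hs' hc' hsol'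
      (by rw [← Category.assoc, hf, Category.assoc, e.inv_hom_id, Category.comp_id])
  · obtain ⟨z, hz⟩ := key (t ≫ b) g hg
    exact ⟨z, by rw [← hz, F.map_comp]; simp only [b', Category.assoc]⟩

end Twist

end Groth.Agent.BPair
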